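import Cfsg.Agent.Lib.Lead.F4Mult.Lifts
import Cfsg.Agent.Lib.Helper5.UC.DtF4
import Mathlib

/-!
# The facts on the root system of type `F₄` used for the central extensions over small fields
(lead)
-/

set_option autoImplicit false
set_option maxRecDepth 100000

namespace Cfsg.Agent.F4Mult

open Cfsg.Lie Cfsg.Agent.Lib.Helper5.Chev Cfsg.Agent.Lib.Helper5.St Cfsg.Agent.Lib.Helper5.Tw
  Cfsg.Agent.Lib.Helper5.UC

section checks

variable {T : FD} {D : ChevalleyDatum}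

/-- the check of `Comm0` -/
def comm0b (T : FD) (r s : ℕ) : Bool :=
  Nat.blt r T.nroots && Nat.blt s T.nroots && !(Nat.beq s r) && !(Nat.beq s (T.neg r)) &&
    (T.commTerms r s).isEmpty

theorem comm0b_spec (hA : T.Agrees D) {r s : ℕ} (h : comm0b T r s = true) : ExtS.Comm0 D r s := by
  unfold comm0b at h
  simp only [Bool.and_eq_true, Nat.blt_eq, Bool.not_eq_true', List.isEmpty_iff] at h
  obtain ⟨⟨⟨⟨h1, h2⟩, h3⟩, h4⟩, h5⟩ := h
  rw [hA.nroots_eq] at h1 h2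
  refine ⟨h1, h2, ?_, ?_, ?_⟩
  · intro e
    rw [← FD.nbeq, h3] at e
    exact Bool.false_ne_true e
  · intro e
    rw [FD.neg_eq' hA r h1, ← FD.nbeq, h4] at e
    exact Bool.false_ne_true e
  · rw [FD.commTerms_eq hA r s h1 h2]
    exact h5

/-- the check of `Dec` -/
def decb (T : FD) (s g d : ℕ) (c : ℤ) : Bool :=
  Nat.blt g T.nroots && Nat.blt d T.nroots && !(Nat.beq d g) && !(Nat.beq d (T.neg g)) &&
    decide (T.commTerms g d = [(s, c, 1, 1)])

theorem decb_spec (hA : T.Agrees D) {s g d : ℕ} {c : ℤ} (h : decb T s g d c = true) :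
    ExtS.Dec D s g d c := by
  unfold decb at h
  simp only [Bool.and_eq_true, Nat.blt_eq, Bool.not_eq_true', decide_eq_true_eq] at h
  obtain ⟨⟨⟨⟨h1, h2⟩, h3⟩, h4⟩, h5⟩ := h
  rw [hA.nroots_eq] at h1 h2
  refine ⟨h1, h2, ?_, ?_, ?_⟩
  · intro e
    rw [← FD.nbeq, h3] at e
    exact Bool.false_ne_true e
  · intro e
    rw [FD.neg_eq' hA g h1, ← FD.nbeq, h4] at e
    exact Bool.false_ne_true e
  · rw [FD.commTerms_eq hA g d h1 h2]
    exact h5

/-- the check of `DecFor`, with a list of candidates -/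
def decForb (T : FD) (c2 : Bool) (tab : List (ℕ × ℕ × ℤ)) (r s : ℕ) : Bool :=
  tab.any fun e => decb T s e.1 e.2.1 e.2.2 &&
    (decide (e.2.2 = 1) || decide (e.2.2 = -1) ||
      (c2 && (decide (e.2.2 = 2) || decide (e.2.2 = -2)))) &&
    comm0b T r e.1 && comm0b T r e.2.1

theorem decForb_spec (hA : T.Agrees D) {c2 : Bool} {P : Prop} (hP : c2 = true → P)
    {tab : List (ℕ × ℕ × ℤ)} {r s : ℕ} (h : decForb T c2 tab r s = true) : DecFor D P r s := by
  unfold decForb at h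
  rw [List.any_eq_true] at h
  obtain ⟨e, -, he⟩ := h
  simp only [Bool.and_eq_true, Bool.or_eq_true, decide_eq_true_eq] at he
  obtain ⟨⟨⟨h1, h2⟩, h3⟩, h4⟩ := he
  refine ⟨e.1, e.2.1, e.2.2, decb_spec hA h1, ?_, comm0b_spec hA h3, comm0b_spec hA h4⟩
  rcases h2 with (h2 | h2) | ⟨h5, h2⟩
  · exact Or.inl h2
  · exact Or.inr (Or.inl h2)
  · exact Or.inr (Or.inr ⟨hP h5, h2⟩)

/-- the check of the decompositions of all roots -/
def selfb (T : FD) (tabs : List (List (ℕ × ℕ × ℤ))) : Bool :=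
  allBelow T.nroots fun r => decForb T false (tabs.getD r []) r r

/-- the check of the torus elements -/
def torusb (D : ChevalleyDatum) (two : Bool) (r s : ℕ) : Bool :=
  (List.range D.nroots).any fun a => decide (pairD D a r = 0) &&
    (decide (pairD D a s = 1) || decide (pairD D a s = -1) ||
      (two && (decide (pairD D a s = 2) || decide (pairD D a s = -2))))

/-- the check of all pairs of roots -/
def pairb (T : FD) (D : ChevalleyDatum) (two dok : Bool) (tabs : List (List (ℕ × ℕ × ℤ))) : Bool :=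
  allBelow T.nroots fun r => allBelow T.nroots fun s =>
    Nat.beq s r || Nat.beq s (T.neg r) || torusb D two r s ||
      ((T.commTerms r s).isEmpty &&
        (decForb T dok (tabs.getD s []) r s || decForb T dok (tabs.getD r []) s r))

theorem rfacts_of_check (hA : T.Agrees D) {two dok : Bool} {P Q : Prop} (hP : two = true → P)
    (hQ : dok = true → Q) (tabs : List (List (ℕ × ℕ × ℤ))) (h1 : selfb T tabs = true)
    (h2 : pairb T D two dok tabs = true) : RFacts D P Q := by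
  refine ⟨fun r hr => ?_, fun r hr s hs hne hneg => ?_⟩
  · unfold selfb at h1
    rw [hA.nroots_eq] at h1
    exact decForb_spec hA (fun h => absurd h Bool.false_ne_true) (allBelow_spec _ _ h1 r hr)
  · unfold pairb at h2
    rw [hA.nroots_eq] at h2
    have h3 := allBelow_spec _ _ (allBelow_spec _ _ h2 r hr) s hs
    simp only [Bool.or_eq_true, Bool.and_eq_true, List.isEmpty_iff] at h3
    rcases h3 with ((h3 | h3) | h3) | ⟨h3, h4⟩
    · exact absurd (FD.nbeq.1 h3) hne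
    · rw [← FD.neg_eq' hA r hr] at h3
      exact absurd (FD.nbeq.1 h3) hneg
    · left
      unfold torusb at h3
      rw [List.any_eq_true] at h3
      obtain ⟨a, ha, h5⟩ := h3
      simp only [Bool.or_eq_true, Bool.and_eq_true, decide_eq_true_eq] at h5
      refine ⟨a, List.mem_range.1 ha, h5.1, ?_⟩
      rcases h5.2 with (h6 | h6) | ⟨h7, h6⟩
      · exact Or.inl h6
      · exact Or.inr (Or.inl h6)
      · exact Or.inr (Or.inr ⟨hP h7, h6⟩)
    · right
      rw [← FD.commTerms_eq hA r s hr hs] at h3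
      refine ⟨h3, ?_⟩
      rcases h4 with h4 | h4
      · exact Or.inl (decForb_spec hA hQ h4)
      · exact Or.inr (decForb_spec hA hQ h4)

end checks

/-- the coefficient with a given code -/
def coefOf : ℕ → ℤ
  | 0 => 1
  | 1 => -1
  | 2 => 2
  | _ => -2

/-- for every root of type `F₄`, the pairs of roots with this sum and with a commutator formula
with one term, and the code of its coefficient -/
def rawF4 : List (List (ℕ × ℕ × ℕ)) :=
  [[(1, 23, 0), (2, 21, 0), (3, 18, 2), (4, 16, 1), (5, 15, 0), (7, 11, 2), (8, 9, 3), (9, 8, 2),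
    (11, 7, 3), (15, 5, 1), (16, 4, 0), (18, 3, 3), (21, 2, 1), (23, 1, 1)],
   [(0, 24, 0), (2, 22, 0), (3, 19, 2), (4, 17, 1), (6, 15, 0), (7, 12, 2), (8, 10, 3),
    (10, 8, 2), (12, 7, 3), (15, 6, 1), (17, 4, 0), (19, 3, 3), (22, 2, 1), (24, 0, 1)],
   [(0, 26, 0), (1, 25, 0), (3, 20, 2), (5, 17, 1), (6, 16, 0), (7, 13, 2), (9, 10, 3),
    (10, 9, 2), (13, 7, 3), (16, 6, 1), (17, 5, 0), (20, 3, 3), (25, 1, 1), (26, 0, 1)],
   [(7, 14, 0), (8, 13, 0), (9, 12, 1), (10, 11, 0), (11, 10, 1), (12, 9, 0), (13, 8, 1),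
    (14, 7, 1)],
   [(0, 31, 1), (1, 30, 1), (3, 27, 2), (5, 22, 0), (6, 21, 1), (8, 14, 2), (11, 12, 3),
    (12, 11, 2), (14, 8, 3), (21, 6, 0), (22, 5, 1), (27, 3, 3), (30, 1, 0), (31, 0, 0)],
   [(0, 32, 0), (2, 30, 1), (3, 28, 3), (4, 25, 0), (6, 23, 0), (9, 14, 2), (11, 13, 3),
    (13, 11, 2), (14, 9, 3), (23, 6, 1), (25, 4, 1), (28, 3, 2), (30, 2, 0), (32, 0, 1)],
   [(1, 32, 0), (2, 31, 0), (3, 29, 2), (4, 26, 1), (5, 24, 0), (10, 14, 2), (12, 13, 3),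
    (13, 12, 2), (14, 10, 3), (24, 5, 1), (26, 4, 0), (29, 3, 3), (31, 2, 1), (32, 1, 1)],
   [(3, 33, 0), (8, 20, 0), (9, 19, 1), (10, 18, 0), (18, 10, 1), (19, 9, 0), (20, 8, 1),
    (33, 3, 1)],
   [(3, 34, 0), (7, 27, 0), (11, 19, 0), (12, 18, 1), (18, 12, 0), (19, 11, 1), (27, 7, 1),
    (34, 3, 1)],
   [(3, 35, 1), (7, 28, 1), (11, 20, 0), (13, 18, 1), (18, 13, 0), (20, 11, 1), (28, 7, 0),
    (35, 3, 0)],
   [(3, 36, 0), (7, 29, 0), (12, 20, 0), (13, 19, 1), (19, 13, 0), (20, 12, 1), (29, 7, 1),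
    (36, 3, 1)],
   [(3, 37, 1), (8, 28, 0), (9, 27, 0), (14, 18, 0), (18, 14, 1), (27, 9, 1), (28, 8, 1),
    (37, 3, 0)],
   [(3, 38, 0), (8, 29, 1), (10, 27, 0), (14, 19, 0), (19, 14, 1), (27, 10, 1), (29, 8, 0),
    (38, 3, 1)],
   [(3, 39, 1), (9, 29, 1), (10, 28, 1), (14, 20, 0), (20, 14, 1), (28, 10, 0), (29, 9, 0),
    (39, 3, 0)],
   [(3, 40, 1), (11, 29, 0), (12, 28, 0), (13, 27, 0), (27, 13, 1), (28, 12, 1), (29, 11, 1),
    (40, 3, 0)],
   [(0, 42, 1), (1, 41, 1), (7, 34, 3), (8, 33, 3), (16, 22, 0), (17, 21, 1), (18, 19, 2),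
    (19, 18, 3), (21, 17, 0), (22, 16, 1), (33, 8, 2), (34, 7, 2), (41, 1, 0), (42, 0, 0)],
   [(0, 43, 0), (2, 41, 1), (7, 35, 2), (9, 33, 3), (15, 25, 0), (17, 23, 0), (18, 20, 2),
    (20, 18, 3), (23, 17, 1), (25, 15, 1), (33, 9, 2), (35, 7, 3), (41, 2, 0), (43, 0, 1)],
   [(1, 43, 0), (2, 42, 0), (7, 36, 3), (10, 33, 3), (15, 26, 1), (16, 24, 0), (19, 20, 2),
    (20, 19, 3), (24, 16, 1), (26, 15, 0), (33, 10, 2), (36, 7, 2), (42, 2, 1), (43, 1, 1)],
   [(7, 37, 1), (8, 35, 0), (9, 34, 0), (11, 33, 1), (33, 11, 0), (34, 9, 1), (35, 8, 1),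
    (37, 7, 0)],
   [(7, 38, 0), (8, 36, 1), (10, 34, 0), (12, 33, 1), (33, 12, 0), (34, 10, 1), (36, 8, 0),
    (38, 7, 1)],
   [(7, 39, 1), (9, 36, 1), (10, 35, 1), (13, 33, 1), (33, 13, 0), (35, 10, 0), (36, 9, 0),
    (39, 7, 0)],
   [(0, 45, 1), (4, 41, 0), (8, 37, 2), (11, 34, 3), (15, 30, 0), (18, 27, 3), (22, 23, 0),
    (23, 22, 1), (27, 18, 2), (30, 15, 1), (34, 11, 2), (37, 8, 3), (41, 4, 1), (45, 0, 0)],
   [(1, 45, 1), (4, 42, 1), (8, 38, 3), (12, 34, 3), (15, 31, 1), (19, 27, 3), (21, 24, 0),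
    (24, 21, 1), (27, 19, 2), (31, 15, 0), (34, 12, 2), (38, 8, 2), (42, 4, 0), (45, 1, 0)],
   [(0, 46, 1), (5, 41, 1), (9, 37, 3), (11, 35, 3), (16, 30, 1), (18, 28, 3), (21, 25, 1),
    (25, 21, 0), (28, 18, 2), (30, 16, 0), (35, 11, 2), (37, 9, 2), (41, 5, 0), (46, 0, 0)],
   [(1, 47, 1), (6, 42, 1), (10, 38, 3), (12, 36, 3), (17, 31, 1), (19, 29, 3), (22, 26, 1),
    (26, 22, 0), (29, 19, 2), (31, 17, 0), (36, 12, 2), (38, 10, 2), (42, 6, 0), (47, 1, 0)],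
   [(2, 46, 1), (5, 43, 1), (9, 39, 3), (13, 35, 3), (16, 32, 1), (20, 28, 3), (23, 26, 0),
    (26, 23, 1), (28, 20, 2), (32, 16, 0), (35, 13, 2), (39, 9, 2), (43, 5, 0), (46, 2, 0)],
   [(2, 47, 1), (6, 43, 0), (10, 39, 2), (13, 36, 3), (17, 32, 0), (20, 29, 3), (24, 25, 0),
    (25, 24, 1), (29, 20, 2), (32, 17, 1), (36, 13, 2), (39, 10, 3), (43, 6, 1), (47, 2, 0)],
   [(8, 40, 1), (11, 38, 1), (12, 37, 1), (14, 34, 1), (34, 14, 0), (37, 12, 0), (38, 11, 0),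
    (40, 8, 0)],
   [(9, 40, 0), (11, 39, 1), (13, 37, 0), (14, 35, 1), (35, 14, 0), (37, 13, 1), (39, 11, 0),
    (40, 9, 1)],
   [(10, 40, 1), (12, 39, 0), (13, 38, 0), (14, 36, 1), (36, 14, 0), (38, 13, 1), (39, 12, 1),
    (40, 10, 0)],
   [(4, 46, 0), (5, 45, 0), (11, 40, 3), (14, 37, 3), (21, 32, 1), (23, 31, 0), (27, 28, 2),
    (28, 27, 3), (31, 23, 1), (32, 21, 0), (37, 14, 2), (40, 11, 2), (45, 5, 1), (46, 4, 1)],
   [(4, 47, 0), (6, 45, 1), (12, 40, 2), (14, 38, 3), (22, 32, 0), (24, 30, 0), (27, 29, 2),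
    (29, 27, 3), (30, 24, 1), (32, 22, 1), (38, 14, 2), (40, 12, 3), (45, 6, 0), (47, 4, 1)],
   [(5, 47, 1), (6, 46, 1), (13, 40, 3), (14, 39, 3), (25, 31, 0), (26, 30, 1), (28, 29, 2),
    (29, 28, 3), (30, 26, 0), (31, 25, 1), (39, 14, 2), (40, 13, 2), (46, 6, 0), (47, 5, 0)],
   [(7, 44, 1), (18, 36, 0), (19, 35, 0), (20, 34, 0), (34, 20, 1), (35, 19, 1), (36, 18, 1),
    (44, 7, 0)],
   [(8, 44, 1), (18, 38, 1), (19, 37, 1), (27, 33, 0), (33, 27, 1), (37, 19, 0), (38, 18, 0),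
    (44, 8, 0)],
   [(9, 44, 0), (18, 39, 1), (20, 37, 0), (28, 33, 0), (33, 28, 1), (37, 20, 1), (39, 18, 0),
    (44, 9, 1)],
   [(10, 44, 1), (19, 39, 0), (20, 38, 0), (29, 33, 0), (33, 29, 1), (38, 20, 1), (39, 19, 1),
    (44, 10, 0)],
   [(11, 44, 0), (18, 40, 0), (27, 35, 0), (28, 34, 1), (34, 28, 0), (35, 27, 1), (40, 18, 1),
    (44, 11, 1)],
   [(12, 44, 1), (19, 40, 1), (27, 36, 0), (29, 34, 1), (34, 29, 0), (36, 27, 1), (40, 19, 0),
    (44, 12, 0)],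
   [(13, 44, 0), (20, 40, 0), (28, 36, 0), (29, 35, 1), (35, 29, 0), (36, 28, 1), (40, 20, 1),
    (44, 13, 1)],
   [(14, 44, 0), (27, 39, 0), (28, 38, 1), (29, 37, 0), (37, 29, 1), (38, 28, 0), (39, 27, 1),
    (44, 14, 1)],
   [(15, 46, 0), (16, 45, 0), (18, 44, 2), (21, 43, 1), (23, 42, 0), (33, 37, 2), (34, 35, 3),
    (35, 34, 2), (37, 33, 3), (42, 23, 1), (43, 21, 0), (44, 18, 3), (45, 16, 1), (46, 15, 1)],
   [(15, 47, 0), (17, 45, 1), (19, 44, 3), (22, 43, 0), (24, 41, 0), (33, 38, 2), (34, 36, 3),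
    (36, 34, 2), (38, 33, 3), (41, 24, 1), (43, 22, 1), (44, 19, 2), (45, 17, 0), (47, 15, 1)],
   [(16, 47, 1), (17, 46, 1), (20, 44, 2), (25, 42, 0), (26, 41, 1), (33, 39, 2), (35, 36, 3),
    (36, 35, 2), (39, 33, 3), (41, 26, 0), (42, 25, 1), (44, 20, 3), (46, 17, 0), (47, 16, 0)],
   [(33, 40, 0), (34, 39, 0), (35, 38, 1), (36, 37, 0), (37, 36, 1), (38, 35, 0), (39, 34, 1),
    (40, 33, 1)],
   [(21, 47, 0), (22, 46, 0), (27, 44, 2), (30, 42, 1), (31, 41, 0), (34, 40, 2), (37, 38, 3),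
    (38, 37, 2), (40, 34, 3), (41, 31, 1), (42, 30, 0), (44, 27, 3), (46, 22, 1), (47, 21, 1)],
   [(23, 47, 0), (25, 45, 0), (28, 44, 2), (30, 43, 1), (32, 41, 0), (35, 40, 2), (37, 39, 3),
    (39, 37, 2), (40, 35, 3), (41, 32, 1), (43, 30, 0), (44, 28, 3), (45, 25, 1), (47, 23, 1)],
   [(24, 46, 0), (26, 45, 0), (29, 44, 2), (31, 43, 1), (32, 42, 0), (36, 40, 2), (38, 39, 3),
    (39, 38, 2), (40, 36, 3), (42, 32, 1), (43, 31, 0), (44, 29, 3), (45, 26, 1), (46, 24, 1)]]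

/-- the table with the coefficients decoded -/
def tabsF4 : List (List (ℕ × ℕ × ℤ)) :=
  rawF4.map fun l => l.map fun e => (e.1, e.2.1, coefOf e.2.2)

theorem selfF4 : selfb DataF4.fd tabsF4 = true := by decide +kernel

theorem pairF4_tf : pairb DataF4.fd chevF4 true false tabsF4 = true := by decide +kernel

theorem pairF4_ft : pairb DataF4.fd chevF4 false true tabsF4 = true := by decide +kernel

/-- the facts for a field of characteristic two with more than two elements -/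
theorem rfactsF4_tf : RFacts chevF4 True False :=
  rfacts_of_check DataF4.agrees (fun _ => trivial) (fun h => absurd h Bool.false_ne_true) tabsF4
    selfF4 pairF4_tf

/-- the facts for a field of characteristic different from two -/
theorem rfactsF4_ft : RFacts chevF4 False True :=
  rfacts_of_check DataF4.agrees (fun h => absurd h Bool.false_ne_true) (fun _ => trivial) tabsF4
    selfF4 pairF4_ft

/-- every root pairs to `± 1` with some coroot -/
def partnerb (D : ChevalleyDatum) : Bool :=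
  (List.range D.nroots).all fun r => (List.range D.nroots).any fun a =>
    decide (pairD D a r = 1) || decide (pairD D a r = -1)

theorem partnerF4 : partnerb chevF4 = true := by decide +kernel

theorem partner_spec {D : ChevalleyDatum} (h : partnerb D = true) (r : ℕ) (hr : r < D.nroots) :
    ∃ a, a < D.nroots ∧ (pairD D a r = 1 ∨ pairD D a r = -1) := by
  unfold partnerb at h
  rw [List.all_eq_true] at h
  have h1 := h r (List.mem_range.2 hr)
  rw [List.any_eq_true] at h1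
  obtain ⟨a, ha, h2⟩ := h1
  rw [Bool.or_eq_true, decide_eq_true_eq, decide_eq_true_eq] at h2
  exact ⟨a, List.mem_range.1 ha, h2⟩

end Cfsg.Agent.F4Mult
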