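import Cfsg.Agent.Lib.Lead.F4Mult.Transport
import Cfsg.Agent.Lib.Helper5.UC.Lifts
import Mathlib

/-!
# The relations (R1), (R2) lift to every central extension of a Chevalley group over a small field,
from facts on the root system (lead)
-/

set_option autoImplicit false

namespace Cfsg.Agent.F4Mult

open Cfsg.Lie Cfsg.Agent.Lib.Helper5.Chev Cfsg.Agent.Lib.Helper5.St Cfsg.Agent.Lib.Helper5.Tw
  Cfsg.Agent.Lib.Helper5.UC

/-- the root `s` is the sum of two roots whose root subgroups commute with the root subgroup of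
`r`, with a structure constant `± 1`, or `± 2` if this is allowed -/
def DecFor (D : ChevalleyDatum) (c2 : Prop) (r s : ℕ) : Prop :=
  ∃ (g d : ℕ) (c : ℤ), ExtS.Dec D s g d c ∧ (c = 1 ∨ c = -1 ∨ (c2 ∧ (c = 2 ∨ c = -2))) ∧
    ExtS.Comm0 D r g ∧ ExtS.Comm0 D r d

/-- the facts on the root system: `two` says that the square of the scalar `c₀` is not one, `dok`
that two is invertible -/
structure RFacts (D : ChevalleyDatum) (two dok : Prop) : Prop where
  self : ∀ r < D.nroots, DecFor D False r r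
  pair : ∀ r < D.nroots, ∀ s < D.nroots, s ≠ r → s ≠ D.neg r →
    (∃ a < D.nroots, pairD D a r = 0 ∧ (pairD D a s = 1 ∨ pairD D a s = -1 ∨
      (two ∧ (pairD D a s = 2 ∨ pairD D a s = -2)))) ∨
    (D.commTerms r s = [] ∧ (DecFor D dok r s ∨ DecFor D dok s r))

namespace ExtS

variable {K : Type*} [Field K] {D : ChevalleyDatum} {E : Type*} [Group E] (X : ExtS K D E)
  {T : FD} {Bs : List ℕ} {gH : ℕ} {baseH : List ℕ} {fuel : ℕ}

theorem lc_of_decFor {c2 : Prop} (h2 : c2 → (2 : K) ≠ 0) {r s : ℕ} (h : DecFor D c2 r s) :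
    X.LC r s := by
  obtain ⟨g, d, c, hdec, hc, hg, hd⟩ := h
  refine X.lc_of_dec hdec ?_ hg hd
  rcases hc with rfl | rfl | ⟨h, rfl | rfl⟩
  · simp
  · simp
  · have := h2 h
    simpa using this
  · have := h2 h
    simpa using this

/-- the canonical lifts satisfy the relations (R1), (R2) -/
theorem rel_all {two dok : Prop} (hF : RFacts D two dok) (htwo : two → X.c0 ^ 2 ≠ 1)
    (hdok : dok → (2 : K) ≠ 0) (C : StCtx K D T Bs gH baseH fuel) (hcw : CommW T D Bs)
    (hgt : tgtb T = true)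
    (rows : ∃ (g1 : ℕ) (base1 : List ℕ) (fuel1 : ℕ), reachb T Bs g1 base1 fuel1 = true ∧
      ∀ r0 ∈ base1, r0 < D.nroots ∧ ∃ (g2 : ℕ) (base2 : List ℕ) (fuel2 : ℕ),
        reachFb T Bs g2 base2 r0 fuel2 = true ∧
        ∀ s ∈ base2, s < D.nroots ∧ (s = r0 ∨ s = D.neg r0 ∨ ∃ L : List ℕ,
          (∀ i ∈ L, i < D.rank) ∧ D.nroots / 2 ≤ wW' Bs L r0 ∧ D.nroots / 2 ≤ wW' Bs L s)) :
    (∀ r < D.nroots, ∀ t : K, X.Ψ (X.Y r t) = X.hadd.xU r t) ∧ (∀ r < D.nroots, Rel1 X.Y r) ∧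
      ∀ r < D.nroots, ∀ s < D.nroots, s ≠ r → s ≠ D.neg r → Rel2 X.Y D r s := by
  have hSR : ∀ r < D.nroots, X.SR r := fun r hr =>
    X.lc_of_decFor (c2 := False) (fun h => h.elim) (hF.self r hr)
  have hT : ∀ r < D.nroots, ∀ s < D.nroots, s ≠ r → s ≠ D.neg r → X.Treat r s := by
    intro r hr s hs hne hneg
    rcases hF.pair r hr s hs hne hneg with ⟨a, ha, h0, h1⟩ | ⟨h0, h1 | h1⟩
    · apply X.treat_of_torus hr hs ha h0
      have hinv : X.c0⁻¹ ≠ 1 := by
        intro e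
        apply X.hc1
        rw [← inv_inv X.c0, e, inv_one]
      rcases h1 with h1 | h1 | ⟨h2, h1 | h1⟩
      · rw [h1, zpow_one]
        exact X.hc1
      · rw [h1, zpow_neg_one]
        exact hinv
      · rw [h1, zpow_ofNat]
        exact htwo h2
      · rw [h1, zpow_neg, zpow_ofNat]
        intro e
        apply htwo h2
        rw [← inv_inv (X.c0 ^ 2), e, inv_one]
    · exact Or.inr ⟨h0, X.lc_of_decFor hdok h1⟩
    · exact Or.inr ⟨h0, (X.lc_of_decFor hdok h1).symm⟩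
  have hgt' := tgt_of_check C.hA hgt
  have hpos : ∀ r s : ℕ, r < D.nroots → s < D.nroots → D.nroots / 2 ≤ r → D.nroots / 2 ≤ s →
      s ≠ r → Rel2 X.Y D r s := fun r s hr hs hpr hps hne =>
    X.pos_rel2 C hT hSR hgt' D.nroots r s hr hs hpr hps hne (by omega)
  obtain ⟨g1, base1, fuel1, hr1, hrow⟩ := rows
  have hall := X.rel2_all C hSR hcw hpos g1 base1 fuel1 hr1 hrow
  refine ⟨X.map_Y', X.rel1 hSR, fun r hr s hs hne hneg => ?_⟩
  rcases hall r hr s hs with h | h | h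
  · exact absurd h hne
  · exact absurd h hneg
  · exact h

end ExtS

end Cfsg.Agent.F4Mult
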