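import Cfsg.Agent.Lib.Lead.F4Mult.FactsF4
import Cfsg.Agent.Lib.Helper5.UC.Mult
import Mathlib

/-!
# The group presented by (R1), (R2) of type `F₄` is centrally closed over every field with more
than two elements (lead)

Steinberg's theorem for the small fields, which `Lib/Helper5/UC/Main` does not cover, and its
consequence for the stem extensions of `F₄(q)`.
-/

set_option autoImplicit false

namespace Cfsg.Agent.F4Mult

open Cfsg.Lie Cfsg.Agent.Lib.Helper5.Chev Cfsg.Agent.Lib.Helper5.St Cfsg.Agent.Lib.Helper5.Tw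
  Cfsg.Agent.Lib.Helper5.UC
open scoped commutatorElement

section perfect

variable {K : Type*} [Field K] {D : ChevalleyDatum} {Γ : Type*} [Group Γ] (R : RData K D Γ)

include R in
/-- a group with root elements satisfying (R1), (R2) is perfect, if every root is the sum of two
roots with structure constant `± 1` and no other term in the commutator formula -/
theorem rdata_perfect_of_self (hself : ∀ r < D.nroots, DecFor D False r r) :
    commutator Γ = ⊤ := by
  have hall : ∀ r < D.nroots, ∀ t : K, R.X r t ∈ commutator Γ := by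
    intro r hr t
    obtain ⟨g, d, c, ⟨hg, hd, hne, hneg, hterms⟩, hc, -, -⟩ := hself r hr
    have hc' : c = 1 ∨ c = -1 := by
      rcases hc with h | h | ⟨h, -⟩
      · exact Or.inl h
      · exact Or.inr h
      · exact h.elim
    have hcc : ((c : ℤ) : K) * ((c : ℤ) : K) = 1 := by
      rcases hc' with rfl | rfl <;> simp
    have key := R.comm g hg d hd hne hneg (-(((c : ℤ) : K) * t)) 1
    unfold ChevalleyDatum.commWord at key
    rw [hterms, List.map_cons, List.map_nil, wordG_cons, wordG_nil, mul_one] at key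
    have e : ((c : ℤ) : K) * (- -(((c : ℤ) : K) * t)) ^ 1 * (1 : K) ^ 1 = t := by
      rw [neg_neg, pow_one, pow_one, mul_one, ← mul_assoc, hcc, one_mul]
    simp only [e] at key
    have h3 : R.X r t = ⁅(R.X d 1)⁻¹, (R.X g (-(((c : ℤ) : K) * t)))⁻¹⁆ := by
      have e2 : R.X r t = (R.X g (-(((c : ℤ) : K) * t)) * R.X d 1)⁻¹ *
          (R.X d 1 * R.X g (-(((c : ℤ) : K) * t))) := by
        rw [key]
        group
      rw [e2, commutatorElement_def]
      group
    rw [h3]
    exact Subgroup.commutator_mem_commutator (Subgroup.mem_top _) (Subgroup.mem_top _)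
  rw [eq_top_iff, ← R.gen, Subgroup.closure_le]
  rintro g ⟨r, hr, t, rfl⟩
  exact hall r hr t

end perfect

section universal

variable {K : Type*} [Field K] {D : ChevalleyDatum}

/-- Steinberg: the group presented by (R1), (R2) is centrally closed, from the facts on the root
system -/
theorem cover_universal_of_facts {T : FD} {Bs : List ℕ} {gH : ℕ} {baseH : List ℕ} {fuel : ℕ}
    (U : UCtx K D T Bs gH baseH fuel) {two dok : Prop} (hF : RFacts D two dok)
    (hpart : ∀ r < D.nroots, ∃ a, a < D.nroots ∧ (pairD D a r = 1 ∨ pairD D a r = -1))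
    (c0 : K) (hc0 : c0 ≠ 0) (hc1 : c0 ≠ 1) (htwo : two → c0 ^ 2 ≠ 1) (hdok : dok → (2 : K) ≠ 0)
    {G₁ E : Type*} [Group G₁] [Group E] (π₁ : E →* G₁) (hπ : Function.Surjective π₁)
    (hc : π₁.ker ≤ Subgroup.center E) (σ : D.SteinbergCover K →* G₁) :
    ∃! τ : D.SteinbergCover K →* E, π₁.comp τ = σ := by
  classical
  have hD := U.C.hD
  have hperfΔ : commutator (D.SteinbergCover K) = ⊤ :=
    rdata_perfect_of_self (coverRData (K := K) hD) hF.self
  have hπc : ∀ z : E, π₁ z = 1 → ∀ m : E, z * m = m * z := by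
    intro z hz m
    exact (Subgroup.mem_center_iff.1 (hc (MonoidHom.mem_ker.2 hz)) m).symm
  have hθc : ∀ z : D.SteinbergCover K, (coverRData (K := K) hD).θ z = 1 →
      ∀ m : D.SteinbergCover K, z * m = m * z := by
    intro z hz m
    exact (Subgroup.mem_center_iff.1
      ((coverRData (K := K) hD).ker_le_center U.C (MonoidHom.mem_ker.2 hz)) m).symm
  -- uniqueness
  have huniq : ∀ τ τ' : D.SteinbergCover K →* E, π₁.comp τ = σ → π₁.comp τ' = σ → τ = τ' := by
    intro τ τ' h h'
    exact hom_eq_of_perfect hperfΔ τ τ' π₁ hπc (h.trans h'.symm)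
  -- the pullback
  let P : Subgroup (E × D.SteinbergCover K) :=
    (π₁.comp (MonoidHom.fst E (D.SteinbergCover K))).eqLocus
      (σ.comp (MonoidHom.snd E (D.SteinbergCover K)))
  have hP : ∀ p : ↥P, π₁ p.1.1 = σ p.1.2 := fun p => p.2
  let ψ₀ : ↥P →* D.SteinbergCover K := (MonoidHom.snd E (D.SteinbergCover K)).comp P.subtype
  have hψ₀ : ∀ p : ↥P, ψ₀ p = p.1.2 := fun p => rfl
  have hsurj₀ : Function.Surjective ψ₀ := by
    intro d
    obtain ⟨e, he⟩ := hπ (σ d)
    exact ⟨⟨(e, d), he⟩, rfl⟩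
  have hcentral₀ : ∀ z : ↥P, ψ₀ z = 1 → ∀ p : ↥P, z * p = p * z := by
    intro z hz p
    rw [hψ₀] at hz
    have h1 : π₁ z.1.1 = 1 := by rw [hP z, hz, map_one]
    apply Subtype.ext
    apply Prod.ext
    · exact hπc _ h1 _
    · show z.1.2 * p.1.2 = p.1.2 * z.1.2
      rw [hz, one_mul, mul_one]
  have hperfP' : commutator ↥(commutator ↥P) = ⊤ :=
    commutator_perfect hperfΔ ψ₀ hsurj₀ hcentral₀
  let ψ : ↥(commutator ↥P) →* D.SteinbergCover K := ψ₀.comp (commutator ↥P).subtype
  have hψsurj : ∀ d : D.SteinbergCover K, ∃ p : ↥(commutator ↥P), ψ p = d := by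
    intro d
    obtain ⟨p, hp, e⟩ := commutator_surjective hperfΔ ψ₀ hsurj₀ d
    exact ⟨⟨p, hp⟩, e⟩
  have hψc : ∀ z : ↥(commutator ↥P), ψ z = 1 → ∀ p : ↥(commutator ↥P), z * p = p * z := by
    intro z hz p
    apply Subtype.ext
    exact hcentral₀ z.1 hz p.1
  have hΨc := central_comp_of_perfect hperfP' ψ (coverRData (K := K) hD).θ hψc hθc
  have hΨsurj : ∀ g ∈ D.group K, ∃ e : ↥(commutator ↥P),
      ((coverRData (K := K) hD).θ.comp ψ) e = g := by
    intro g hg
    obtain ⟨d, hd⟩ := (coverRData (K := K) hD).thetaG_surjective ⟨g, hg⟩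
    obtain ⟨p, hp⟩ := hψsurj d
    refine ⟨p, ?_⟩
    rw [MonoidHom.comp_apply, hp, ← (coverRData (K := K) hD).thetaG_val, hd]
  let pt : ℕ → ℕ := fun r =>
    if h : ∃ a, a < D.nroots ∧ (pairD D a r = 1 ∨ pairD D a r = -1) then h.choose else 0
  have hpt : ∀ r < D.nroots, pt r < D.nroots ∧ (pairD D (pt r) r = 1 ∨ pairD D (pt r) r = -1) := by
    intro r hr
    have h := hpart r hr
    have e : pt r = h.choose := dif_pos h
    rw [e]
    exact h.choose_spec
  let X : ExtS K D ↥(commutator ↥P) :=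
    ⟨hD, (coverRData (K := K) hD).θ.comp ψ, hΨsurj, hΨc, c0, hc0, hc1, pt, hpt⟩
  obtain ⟨h1, h2, h3⟩ := X.rel_all hF htwo hdok U.C U.cw U.gt U.rows
  obtain ⟨τ₀, hτ₀⟩ := exists_hom_of_rel X.Y U.C.hA h2 h3
  have hcomp : (coverRData (K := K) hD).θ.comp (ψ.comp τ₀)
      = (coverRData (K := K) hD).θ.comp (MonoidHom.id (D.SteinbergCover K)) := by
    apply MonoidHom.eq_of_eqOn_dense (coverRData (K := K) hD).gen
    rintro g ⟨r, hr, t, rfl⟩
    show (coverRData (K := K) hD).θ (ψ (τ₀ ((coverRData (K := K) hD).X r t)))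
      = (coverRData (K := K) hD).θ ((coverRData (K := K) hD).X r t)
    rw [coverRData_X, hτ₀ r hr t, ← coverRData_X hD, (coverRData (K := K) hD).hθ r hr t]
    exact h1 r hr t
  have hid : ψ.comp τ₀ = MonoidHom.id (D.SteinbergCover K) :=
    hom_eq_of_perfect hperfΔ _ _ (coverRData (K := K) hD).θ hθc hcomp
  let τ : D.SteinbergCover K →* E :=
    (MonoidHom.fst E (D.SteinbergCover K)).comp (P.subtype.comp ((commutator ↥P).subtype.comp τ₀))
  have hτ : π₁.comp τ = σ := by
    apply MonoidHom.ext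
    intro d
    show π₁ (τ₀ d).1.1.1 = σ d
    rw [hP (τ₀ d).1]
    have := DFunLike.congr_fun hid d
    exact congrArg σ this
  exact ⟨τ, hτ, fun τ' hτ' => huniq τ' τ hτ' hτ⟩

/-- Steinberg: the group presented by (R1), (R2) of type `F₄` over a field with more than two
elements is centrally closed -/
theorem cover_universal_F4 (hK : ∃ c : K, c ≠ 0 ∧ c ≠ 1)
    {G₁ E : Type*} [Group G₁] [Group E] (π₁ : E →* G₁) (hπ : Function.Surjective π₁)
    (hc : π₁.ker ≤ Subgroup.center E) (σ : chevF4.SteinbergCover K →* G₁) :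
    ∃! τ : chevF4.SteinbergCover K →* E, π₁.comp τ = σ := by
  have hpart := partner_spec partnerF4
  by_cases h2 : (2 : K) = 0
  · -- characteristic two
    obtain ⟨c0, hc0, hc1⟩ := hK
    have hsq : c0 ^ 2 ≠ 1 := by
      intro e
      apply hc1
      have h3 : (c0 - 1) ^ 2 = 0 := by
        have : (c0 - 1) ^ 2 = c0 ^ 2 - 2 * c0 + 1 := by ring
        rw [this, e, h2, zero_mul, sub_zero]
        have : (1 : K) + 1 = 2 := by norm_num
        rw [this, h2]
      exact sub_eq_zero.1 ((pow_eq_zero_iff (two_ne_zero)).1 h3)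
    exact cover_universal_of_facts (DtF4.uctx K) rfactsF4_tf hpart c0 hc0 hc1 (fun _ => hsq)
      (fun h => h.elim) π₁ hπ hc σ
  · -- characteristic different from two
    have hm1 : (-1 : K) ≠ 1 := by
      intro e
      apply h2
      have : (2 : K) = 1 - (-1) := by norm_num
      rw [this, e, sub_self]
    exact cover_universal_of_facts (DtF4.uctx K) rfactsF4_ft hpart (-1) (by simp) hm1
      (fun h => h.elim) (fun _ => h2) π₁ hπ hc σ

end universal

section stem

variable {K : Type*} [Field K]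

/-- every stem extension of `F₄(K)`, `K` a finite field with more than two elements, is trivial -/
theorem stem_ker_eq_bot_F4 [Finite K] (hK : ∃ c : K, c ≠ 0 ∧ c ≠ 1) {Γ : Type*} [Group Γ]
    (σ : Γ →* ↥(chevF4.group K)) (hsurj : Function.Surjective σ)
    (hc : σ.ker ≤ Subgroup.center Γ) (hder : σ.ker ≤ commutator Γ) : σ.ker = ⊥ := by
  obtain ⟨e⟩ := exists_cover_equiv_group (K := K) (D := chevF4) (by simp)
  obtain ⟨τ, hτ, -⟩ := cover_universal_F4 hK σ hsurj hc e.toMonoidHom
  apply ker_eq_bot_of_section σ (τ.comp e.symm.toMonoidHom) ?_ hc hder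
  intro g
  have := DFunLike.congr_fun hτ (e.symm g)
  simp only [MonoidHom.comp_apply, MulEquiv.coe_toMonoidHom, MulEquiv.apply_symm_apply] at this ⊢
  exact this

end stem

end Cfsg.Agent.F4Mult
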