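import Cfsg.Agent.Lib.Lead.F4Mult.Step
import Cfsg.Agent.Lib.Helper5.UC.Pos
import Mathlib

/-!
# The relation (R2) for the pairs of positive roots, small fields (lead)

The induction of `Lib/Helper5/UC/Pos`; a pair of roots is treated either by a torus element which
centralises the first root subgroup and acts non-trivially on the second one, or, if all lifts of
the elements of the two root subgroups commute, directly.
-/

set_option autoImplicit false

namespace Cfsg.Agent.F4Mult

open Cfsg.Lie Cfsg.Agent.Lib.Helper5.Chev Cfsg.Agent.Lib.Helper5.St Cfsg.Agent.Lib.Helper5.Tw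
  Cfsg.Agent.Lib.Helper5.UC
open scoped commutatorElement

namespace ExtS

variable {K : Type*} [Field K] {D : ChevalleyDatum} {E : Type*} [Group E] (X : ExtS K D E)

/-- the pair `(r, s)` can be treated: by a torus element centralising `X_r` and acting
non-trivially on `X_s`, or because all lifts commute -/
def Treat (r s : ℕ) : Prop :=
  (∃ h ∈ D.diagonalSubgroup K, ∃ v : K, v ≠ 1 ∧ (∀ t, h * X.x r t * h⁻¹ = X.x r t) ∧
      (∀ u, h * X.x s u * h⁻¹ = X.x s (v * u))) ∨ (D.commTerms r s = [] ∧ X.LC r s)

theorem rel2_of_lc {r s : ℕ} (hr : r < D.nroots) (hs : s < D.nroots) (h0 : D.commTerms r s = [])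
    (hlc : X.LC r s) : Rel2 X.Y D r s := by
  intro t u
  unfold ChevalleyDatum.commWord
  rw [h0, List.map_nil, wordG_nil, mul_one]
  exact (hlc _ _ t u (X.map_Y r hr t) (X.map_Y s hs u)).symm

/-- the torus element `h_a(c₀)` treats the pair `(r, s)`, if `⟨r, a^∨⟩ = 0` and
`c₀ ^ ⟨s, a^∨⟩ ≠ 1` -/
theorem treat_of_torus {r s a : ℕ} (hr : r < D.nroots) (hs : s < D.nroots) (ha : a < D.nroots)
    (h0 : pairD D a r = 0) (h1 : X.c0 ^ pairD D a s ≠ 1) : X.Treat r s := by
  refine Or.inl ⟨X.hU a X.c0, X.hU_mem a ha _ X.hc0, X.c0 ^ pairD D a s, h1, fun t => ?_, fun u => ?_⟩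
  · rw [X.hU_conj a r ha hr _ X.hc0, h0, zpow_zero, one_mul]
  · rw [X.hU_conj a s ha hs _ X.hc0]

variable {T : FD} {Bs : List ℕ} {gH : ℕ} {baseH : List ℕ} {fuel : ℕ}
  (C : StCtx K D T Bs gH baseH fuel)

include C in
/-- the relation (R2) for all pairs of positive roots -/
theorem pos_rel2 (hT : ∀ r < D.nroots, ∀ s < D.nroots, s ≠ r → s ≠ D.neg r → X.Treat r s)
    (hSR : ∀ r < D.nroots, X.SR r)
    (hgt : ∀ a < D.nroots, ∀ b < D.nroots, D.nroots / 2 ≤ a → D.nroots / 2 ≤ b → b ≠ a →
      ∀ c ∈ D.commTerms a b, a < c.1 ∧ b < c.1) :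
    ∀ k r s : ℕ, r < D.nroots → s < D.nroots → D.nroots / 2 ≤ r → D.nroots / 2 ≤ s → s ≠ r →
      D.nroots ≤ max r s + k → Rel2 X.Y D r s := by
  have heven := even_all D X.hD
  intro k
  induction k with
  | zero =>
    intro r s hr hs _ _ _ hk
    exfalso
    have : max r s < D.nroots := max_lt hr hs
    omega
  | succ k ih =>
    intro r s hr hs hpr hps hne hk
    by_cases hk' : D.nroots ≤ max r s + k
    · exact ih r s hr hs hpr hps hne hk'
    · have hm : ∀ a b : ℕ, max r s < max a b → D.nroots ≤ max a b + k := by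
        intro a b h
        omega
      have hneg : s ≠ D.neg r := by
        have := neg_lt_half_all D X.hD r hr hpr
        omega
      let P : ℕ → Bool := fun x => decide (x = s) || decide (max r s < x)
      have hPiff : ∀ x, P x = true ↔ x = s ∨ max r s < x := by
        intro x
        simp [P]
      have hmemM : ∀ x, x ∈ (posL D).filter P ↔
          (D.nroots / 2 ≤ x ∧ x < D.nroots) ∧ (x = s ∨ max r s < x) := by
        intro x
        rw [List.mem_filter, mem_posL heven, hPiff]
      have hclosed : ∀ a ∈ posL D, ∀ b ∈ posL D, P a = true → P b = true → b ≠ a →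
          ∀ c ∈ D.commTerms a b, P c.1 = true := by
        intro a ha b hb hPa hPb hba c hc
        rw [mem_posL heven] at ha hb
        rw [hPiff] at hPa hPb ⊢
        obtain ⟨h1, h2⟩ := hgt a ha.2 b hb.2 ha.1 hb.1 hba c hc
        right
        rcases hPa with rfl | hPa
        · rcases hPb with rfl | hPb
          · exact absurd rfl hba
          · omega
        · omega
      have hgood : GoodL D ((posL D).filter P) := goodL_filter P (posL D) C.good hclosed
      rcases hT r hr s hs hne hneg with ⟨h, hh, v, hv, h1, h2⟩ | ⟨h0, hlc⟩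
      swap
      · exact X.rel2_of_lc hr hs h0 hlc
      refine X.step hSR r s hr hs hne hneg ((posL D).filter P) ?_ ?_ hgood ?_
        (injL_filter X.hD X.hadd P) h hh v hv h1 h2
      · rw [hmemM]
        exact ⟨⟨hps, hs⟩, Or.inl rfl⟩
      · intro c hc
        obtain ⟨h1, h2⟩ := hgt r hr s hs hpr hps hne c hc
        have hclt : c.1 < D.nroots := by
          rw [FD.commTerms_eq C.hA r s hr hs] at hc
          exact FD.commTerms_lt C.hA r s hr hs c hc
        rw [hmemM]
        refine ⟨⟨by omega, hclt⟩, Or.inr ?_⟩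
        exact max_lt h1 h2
      · apply goodP_of _ hgood
        · intro a ha
          exact X.rel1 hSR a (RData.goodL_lt hgood a ha)
        · intro a ha b hb hba
          rw [hmemM] at ha hb
          apply ih a b ha.1.2 hb.1.2 ha.1.1 hb.1.1 hba
          apply hm
          rcases ha.2 with rfl | h1
          · rcases hb.2 with rfl | h2
            · exact absurd rfl hba
            · exact lt_of_lt_of_le h2 (le_max_right _ _)
          · exact lt_of_lt_of_le h1 (le_max_left _ _)

end ExtS

end Cfsg.Agent.F4Mult
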