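import Cfsg.Agent.Lib.Lead.F4Mult.YDef
import Cfsg.Agent.Lib.Helper5.UC.Step
import Mathlib

/-!
# Steinberg's argument for the relation (R2) of one pair of roots, small fields (lead)

A copy of the argument of `Lib/Helper5/UC/Step` for the structure `ExtS`.
-/

set_option autoImplicit false

namespace Cfsg.Agent.F4Mult

open Cfsg.Lie Cfsg.Agent.Lib.Helper5.Chev Cfsg.Agent.Lib.Helper5.St Cfsg.Agent.Lib.Helper5.Tw
  Cfsg.Agent.Lib.Helper5.UC
open scoped commutatorElement IsMulCommutative

namespace ExtS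

variable {K : Type*} [Field K] {D : ChevalleyDatum} {E : Type*} [Group E] (X : ExtS K D E)
  (hSR : ∀ r < D.nroots, X.SR r)

include hSR

theorem rel1 (r : ℕ) (hr : r < D.nroots) : Rel1 X.Y r :=
  fun t u => X.Y_add r hr (hSR r hr) t u

omit hSR in
theorem map_Y' : ∀ r < D.nroots, ∀ t : K, X.Ψ (X.Y r t) = X.hadd.xU r t :=
  fun r hr t => X.map_Y r hr t

/-- Steinberg's argument -/
theorem step (r s : ℕ) (hr : r < D.nroots) (hs : s < D.nroots) (hne : s ≠ r)
    (hneg : s ≠ D.neg r) (M : List ℕ) (hsM : s ∈ M) (hterms : ∀ c ∈ D.commTerms r s, c.1 ∈ M)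
    (hgood : GoodL D M) (hrel : GoodP X.Y D M) (hinj : RData.InjL K D X.hadd M)
    (h : GL D.Idx K) (hh : h ∈ D.diagonalSubgroup K) (v : K) (hv : v ≠ 1)
    (hhr : ∀ t, h * X.x r t * h⁻¹ = X.x r t) (hhs : ∀ u, h * X.x s u * h⁻¹ = X.x s (v * u)) :
    Rel2 X.Y D r s := by
  classical
  have hMlt : ∀ k ∈ M, k < D.nroots := RData.goodL_lt hgood
  have hΨ := X.map_Y'
  -- the words
  have hWmem : ∀ t u : K, ∀ p ∈ D.commWord K r s t u, p.1 ∈ M := by
    intro t u p hp
    obtain ⟨c, hc, e⟩ := RData.commWord_mem r s t u p hp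
    rw [e]
    exact hterms c hc
  have hW : ∀ t u : K, wordG X.Y (D.commWord K r s t u) ∈ ULY X.Y M :=
    fun t u => wordG_mem_ULY X.Y M _ (hWmem t u)
  have hYs : ∀ u : K, X.Y s u ∈ ULY X.Y M := fun u => Y_mem_ULY X.Y M s hsM u
  -- the defect
  obtain ⟨f, hf⟩ : ∃ f : K → K → E, ∀ t u, f t u =
      (X.Y r t * X.Y s u * wordG X.Y (D.commWord K r s t u))⁻¹ * (X.Y s u * X.Y r t) :=
    ⟨_, fun _ _ => rfl⟩
  have hfdef : ∀ t u, X.Y s u * X.Y r t
      = X.Y r t * X.Y s u * wordG X.Y (D.commWord K r s t u) * f t u := by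
    intro t u
    rw [hf, mul_inv_cancel_left]
  have hfker : ∀ t u, X.Ψ (f t u) = 1 := by
    intro t u
    rw [hf, map_mul, map_inv, map_mul, map_mul, map_mul, hΨ r hr, hΨ s hs,
      map_wordG X.hadd X.Ψ hΨ _ (fun p hp => hMlt _ (hWmem t u p hp)), inv_mul_eq_one]
    apply Units.ext
    rw [Units.val_mul, Units.val_mul, Units.val_mul, X.hadd.wordU_val]
    exact (comm_formula D X.hD r s hr hs hne hneg t u).symm
  have hfc : ∀ t u e, f t u * e = e * f t u := fun t u e => X.hc _ (hfker t u) e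
  have hconj : ∀ t u, (X.Y r t)⁻¹ * X.Y s u * X.Y r t
      = X.Y s u * wordG X.Y (D.commWord K r s t u) * f t u := by
    intro t u
    rw [mul_assoc, hfdef t u]
    group
  -- injectivity
  have hker1 : ∀ g ∈ ULY X.Y M, X.Ψ g = 1 → g = 1 :=
    fun g hg h1 => inj_ULY X.hadd X.Ψ hΨ M hgood hrel hinj g hg h1
  -- additivity in the second variable
  have hadd2 : ∀ t u u', f t (u + u') = f t u * f t u' := by
    intro t u u'
    obtain ⟨A, hA⟩ : ∃ A, A = X.Y s (u + u') * wordG X.Y (D.commWord K r s t (u + u')) := ⟨_, rfl⟩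
    obtain ⟨B, hB⟩ : ∃ B, B = X.Y s u * wordG X.Y (D.commWord K r s t u) *
      (X.Y s u' * wordG X.Y (D.commWord K r s t u')) := ⟨_, rfl⟩
    have key : A * f t (u + u') = B * (f t u * f t u') := by
      calc A * f t (u + u') = (X.Y r t)⁻¹ * X.Y s (u + u') * X.Y r t := by
            rw [hA]
            exact (hconj t (u + u')).symm
        _ = ((X.Y r t)⁻¹ * X.Y s u * X.Y r t) * ((X.Y r t)⁻¹ * X.Y s u' * X.Y r t) := by
          rw [← X.rel1 hSR s hs u u']
          group
        _ = (X.Y s u * wordG X.Y (D.commWord K r s t u) * f t u) *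
            (X.Y s u' * wordG X.Y (D.commWord K r s t u') * f t u') := by
          rw [hconj, hconj]
        _ = X.Y s u * wordG X.Y (D.commWord K r s t u) *
            (f t u * (X.Y s u' * wordG X.Y (D.commWord K r s t u'))) * f t u' := by group
        _ = X.Y s u * wordG X.Y (D.commWord K r s t u) *
            ((X.Y s u' * wordG X.Y (D.commWord K r s t u')) * f t u) * f t u' := by rw [hfc t u]
        _ = B * (f t u * f t u') := by
          rw [hB]
          group
    have hg : A⁻¹ * B = f t (u + u') * (f t u * f t u')⁻¹ := by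
      have : B = A * f t (u + u') * (f t u * f t u')⁻¹ := by
        rw [key]
        group
      rw [this]
      group
    have hmem : A⁻¹ * B ∈ ULY X.Y M := by
      rw [hA, hB]
      exact Subgroup.mul_mem _ (Subgroup.inv_mem _ (Subgroup.mul_mem _ (hYs _) (hW _ _)))
        (Subgroup.mul_mem _ (Subgroup.mul_mem _ (hYs _) (hW _ _))
          (Subgroup.mul_mem _ (hYs _) (hW _ _)))
    have h1 := hker1 _ hmem (by
      rw [hg, map_mul, map_inv, map_mul, hfker, hfker, hfker, one_mul, one_mul, inv_one])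
    have hAB : A = B := by
      have := inv_mul_eq_one.1 h1
      exact this
    rw [hAB] at key
    exact mul_left_cancel key
  -- invariance under the torus element
  obtain ⟨a, ha⟩ := X.lift_diag h hh
  obtain ⟨χ, -, hχ⟩ := diag_conj_char D X.hD h hh
  have har : ∀ t, a * X.Y r t * a⁻¹ = X.Y r t := by
    intro t
    have := X.Y_tor r hr (hSR r hr) a h hh 1 (fun t' => by rw [one_mul]; exact hhr t')
      ha t
    rwa [one_mul] at this
  have has : ∀ u, a * X.Y s u * a⁻¹ = X.Y s (v * u) :=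
    fun u => X.Y_tor s hs (hSR s hs) a h hh v hhs ha u
  have haM : ∀ k ∈ M, ∀ x : K, ∃ x' : K, a * X.Y k x * a⁻¹ = X.Y k x' := by
    intro k hk x
    exact ⟨_, X.Y_tor k (hMlt k hk) (hSR k (hMlt k hk)) a h hh (χ k : K)
      (fun t' => hχ k (hMlt k hk) t') ha x⟩
  have hinv : ∀ t u, f t (v * u) = f t u := by
    intro t u
    obtain ⟨W', hW'⟩ : ∃ W', W' = a * wordG X.Y (D.commWord K r s t u) * a⁻¹ := ⟨_, rfl⟩
    have hW'mem : W' ∈ ULY X.Y M := by
      rw [hW']
      exact conj_wordG_mem M a haM _ (hWmem t u)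
    have key : wordG X.Y (D.commWord K r s t (v * u)) * f t (v * u) = W' * f t u := by
      have e1 : a * ((X.Y r t)⁻¹ * X.Y s u * X.Y r t) * a⁻¹
          = (X.Y r t)⁻¹ * X.Y s (v * u) * X.Y r t := by
        calc a * ((X.Y r t)⁻¹ * X.Y s u * X.Y r t) * a⁻¹
            = (a * X.Y r t * a⁻¹)⁻¹ * (a * X.Y s u * a⁻¹) * (a * X.Y r t * a⁻¹) := by group
          _ = _ := by rw [har, has]
      have e2 : a * (X.Y s u * wordG X.Y (D.commWord K r s t u) * f t u) * a⁻¹
          = X.Y s (v * u) * W' * f t u := by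
        calc a * (X.Y s u * wordG X.Y (D.commWord K r s t u) * f t u) * a⁻¹
            = (a * X.Y s u * a⁻¹) * (a * wordG X.Y (D.commWord K r s t u) * a⁻¹) *
              (a * f t u * a⁻¹) := by group
          _ = _ := by
            rw [has, ← hW', ← hfc t u a, mul_inv_cancel_right]
      have e3 : X.Y s (v * u) * wordG X.Y (D.commWord K r s t (v * u)) * f t (v * u)
          = X.Y s (v * u) * W' * f t u := by
        rw [← hconj t (v * u), ← e1, hconj t u, e2]
      rw [mul_assoc, mul_assoc (X.Y s (v * u)) W'] at e3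
      exact mul_left_cancel e3
    have hg : (wordG X.Y (D.commWord K r s t (v * u)))⁻¹ * W' = f t (v * u) * (f t u)⁻¹ := by
      have : W' = wordG X.Y (D.commWord K r s t (v * u)) * f t (v * u) * (f t u)⁻¹ := by
        rw [key]
        group
      rw [this]
      group
    have hmem : (wordG X.Y (D.commWord K r s t (v * u)))⁻¹ * W' ∈ ULY X.Y M :=
      Subgroup.mul_mem _ (Subgroup.inv_mem _ (hW _ _)) hW'mem
    have h1 := hker1 _ hmem (by rw [hg, map_mul, map_inv, hfker, hfker, one_mul, inv_one])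
    have hWW : wordG X.Y (D.commWord K r s t (v * u)) = W' := inv_mul_eq_one.1 h1
    rw [hWW] at key
    exact mul_left_cancel key
  -- the defect vanishes
  let φ : K → K → Additive (Subgroup.center E) := fun t u =>
    Additive.ofMul ⟨f t u, Subgroup.mem_center_iff.2 (fun e => (hfc t u e).symm)⟩
  have hφ : ∀ t u, φ t u = 0 := by
    apply biadd_zero_of_scale φ _ v hv
    · intro t u
      show Additive.ofMul _ = Additive.ofMul _
      congr 1
      apply Subtype.ext
      exact hinv t u
    · intro t u u'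
      show Additive.ofMul _ = Additive.ofMul (_ * _)
      congr 1
      apply Subtype.ext
      exact hadd2 t u u'
  intro t u
  have h1 : (⟨f t u, Subgroup.mem_center_iff.2 (fun e => (hfc t u e).symm)⟩ : Subgroup.center E)
      = 1 := hφ t u
  have h2 : f t u = 1 := congrArg Subtype.val h1
  rw [hfdef t u, h2, mul_one]

end ExtS

end Cfsg.Agent.F4Mult
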