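import Cfsg.Agent.Lib.Lead.F4Mult.Pos
import Cfsg.Agent.Lib.Helper5.UC.Transport
import Mathlib

/-!
# Transport of the relation (R2) along the Weyl group, small fields (lead)

A copy of `Lib/Helper5/UC/Transport` for the structure `ExtS`.
-/

set_option autoImplicit false

namespace Cfsg.Agent.F4Mult

open Cfsg.Lie Cfsg.Agent.Lib.Helper5.Chev Cfsg.Agent.Lib.Helper5.St Cfsg.Agent.Lib.Helper5.Tw
  Cfsg.Agent.Lib.Helper5.UC
open scoped commutatorElement

namespace ExtS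

variable {K : Type*} [Field K] {D : ChevalleyDatum} {E : Type*} [Group E] (X : ExtS K D E)
  {T : FD} {Bs : List ℕ} {gH : ℕ} {baseH : List ℕ} {fuel : ℕ}
  (C : StCtx K D T Bs gH baseH fuel) (hSR : ∀ r < D.nroots, X.SR r)
  (hcw : CommW T D Bs)

include C hSR hcw

/-- transport of the relation (R2) along a fundamental reflection -/
theorem rel2_transfer (i : ℕ) (hi : i < D.rank) (r s : ℕ) (hr : r < D.nroots) (hs : s < D.nroots)
    (h : Rel2 X.Y D r s) : Rel2 X.Y D (wOf (Bs.getD i 0) r) (wOf (Bs.getD i 0) s) := by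
  intro t' u'
  obtain ⟨n, hn⟩ := X.lift_n C i
  have hcert := (C.hB i hi).cert C.hA
  have hwr := hcert.w_lt r hr
  have hws := hcert.w_lt s hs
  have hηr := hcert.eta_sq (F := K) r hr
  have hηs := hcert.eta_sq (F := K) s hs
  have cY : ∀ k < D.nroots, ∀ x : K, n * X.Y k x * n⁻¹
      = X.Y (wOf (Bs.getD i 0) k) (((etaOf (Bs.getD i 0) k : ℤ) : K) * x) := fun k hk x =>
    X.Y_n C i hi k hk (hSR _ (hcert.w_lt k hk)) n hn x
  have key := h (((etaOf (Bs.getD i 0) r : ℤ) : K) * t') (((etaOf (Bs.getD i 0) s : ℤ) : K) * u')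
  have e1 : n * X.Y r (((etaOf (Bs.getD i 0) r : ℤ) : K) * t') * n⁻¹
      = X.Y (wOf (Bs.getD i 0) r) t' := by
    rw [cY r hr, ← mul_assoc, hηr, one_mul]
  have e2 : n * X.Y s (((etaOf (Bs.getD i 0) s : ℤ) : K) * u') * n⁻¹
      = X.Y (wOf (Bs.getD i 0) s) u' := by
    rw [cY s hs, ← mul_assoc, hηs, one_mul]
  have hlt : ∀ p ∈ D.commWord K r s (((etaOf (Bs.getD i 0) r : ℤ) : K) * t')
      (((etaOf (Bs.getD i 0) s : ℤ) : K) * u'), p.1 < D.nroots := by
    intro p hp'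
    unfold ChevalleyDatum.commWord at hp'
    rw [List.mem_map] at hp'
    obtain ⟨c', hc', rfl⟩ := hp'
    rw [FD.commTerms_eq C.hA r s hr hs] at hc'
    exact FD.commTerms_lt C.hA r s hr hs c' hc'
  have e4 : (D.commWord K r s (((etaOf (Bs.getD i 0) r : ℤ) : K) * t')
      (((etaOf (Bs.getD i 0) s : ℤ) : K) * u')).map
      (fun p => (wOf (Bs.getD i 0) p.1, ((etaOf (Bs.getD i 0) p.1 : ℤ) : K) * p.2))
      = D.commWord K (wOf (Bs.getD i 0) r) (wOf (Bs.getD i 0) s) t' u' := by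
    unfold ChevalleyDatum.commWord
    rw [FD.commTerms_eq C.hA _ _ hwr hws, FD.commTerms_eq C.hA r s hr hs, hcw i hi r hr s hs,
      List.map_map, List.map_map]
    apply List.map_congr_left
    intro c' _
    simp only [Function.comp, phiW]
    congr 1
    push_cast
    have a1 : (-(((etaOf (Bs.getD i 0) r : ℤ) : K) * t')) ^ c'.2.2.1
        = ((etaOf (Bs.getD i 0) r : ℤ) : K) ^ c'.2.2.1 * (-t') ^ c'.2.2.1 := by
      rw [← mul_pow]; congr 1; ring
    rw [a1, mul_pow]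
    ring
  have e3 : n * wordG X.Y (D.commWord K r s (((etaOf (Bs.getD i 0) r : ℤ) : K) * t')
      (((etaOf (Bs.getD i 0) s : ℤ) : K) * u')) * n⁻¹
      = wordG X.Y (D.commWord K (wOf (Bs.getD i 0) r) (wOf (Bs.getD i 0) s) t' u') := by
    rw [conj_wordG_map n (fun p => (wOf (Bs.getD i 0) p.1, ((etaOf (Bs.getD i 0) p.1 : ℤ) : K) * p.2))
      _ (fun p hp => cY p.1 (hlt p hp) p.2), e4]
  calc X.Y (wOf (Bs.getD i 0) s) u' * X.Y (wOf (Bs.getD i 0) r) t'
      = n * (X.Y s (((etaOf (Bs.getD i 0) s : ℤ) : K) * u') *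
          X.Y r (((etaOf (Bs.getD i 0) r : ℤ) : K) * t')) * n⁻¹ := by
        rw [← e1, ← e2]
        group
    _ = n * (X.Y r (((etaOf (Bs.getD i 0) r : ℤ) : K) * t') *
          X.Y s (((etaOf (Bs.getD i 0) s : ℤ) : K) * u') *
          wordG X.Y (D.commWord K r s (((etaOf (Bs.getD i 0) r : ℤ) : K) * t')
            (((etaOf (Bs.getD i 0) s : ℤ) : K) * u'))) * n⁻¹ := by rw [key]
    _ = _ := by
        rw [← e1, ← e2, ← e3]
        group

/-- the relation (R2) for the pair `(r, s)`, or `s = ± r` -/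
def Rel2' (r s : ℕ) : Prop := s = r ∨ s = D.neg r ∨ Rel2 X.Y D r s

theorem rel2'_transfer (i : ℕ) (hi : i < D.rank) (r s : ℕ) (hr : r < D.nroots)
    (hs : s < D.nroots) (h : X.Rel2' r s) :
    X.Rel2' (wOf (Bs.getD i 0) r) (wOf (Bs.getD i 0) s) := by
  have hcert := (C.hB i hi).cert C.hA
  rcases h with rfl | rfl | h
  · exact Or.inl rfl
  · right; left
    rw [FD.neg_eq' C.hA _ (hcert.w_lt r hr), FD.neg_eq' C.hA r hr, hcert.neg_w r hr]
  · exact Or.inr (Or.inr (X.rel2_transfer C hSR hcw i hi r s hr hs h))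

theorem rel2'_transfer_back (i : ℕ) (hi : i < D.rank) (r s : ℕ) (hr : r < D.nroots)
    (hs : s < D.nroots) (h : X.Rel2' (wOf (Bs.getD i 0) r) (wOf (Bs.getD i 0) s)) :
    X.Rel2' r s := by
  have hcert := (C.hB i hi).cert C.hA
  have := X.rel2'_transfer C hSR hcw i hi _ _ (hcert.w_lt r hr) (hcert.w_lt s hs) h
  rwa [hcert.w_w r hr, hcert.w_w s hs] at this

theorem rel2'_word : ∀ (L : List ℕ), (∀ i ∈ L, i < D.rank) → ∀ r s : ℕ, r < D.nroots →
    s < D.nroots → X.Rel2' (wW' Bs L r) (wW' Bs L s) → X.Rel2' r s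
  | [], _, _, _, _, _, h => h
  | i :: L, hL, r, s, hr, hs, h => by
    have hi := hL i List.mem_cons_self
    have hcert := (C.hB i hi).cert C.hA
    have h1 := rel2'_word L (fun j hj => hL j (List.mem_cons_of_mem _ hj)) _ _
      (hcert.w_lt r hr) (hcert.w_lt s hs) h
    exact X.rel2'_transfer_back C hSR hcw i hi r s hr hs h1

/-- the relation (R2) for all pairs of roots, from the pairs of positive roots -/
theorem rel2_all
    (hpos : ∀ r s : ℕ, r < D.nroots → s < D.nroots → D.nroots / 2 ≤ r → D.nroots / 2 ≤ s →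
      s ≠ r → Rel2 X.Y D r s)
    (g1 : ℕ) (base1 : List ℕ) (fuel1 : ℕ) (hr1 : reachb T Bs g1 base1 fuel1 = true)
    (hrow : ∀ r0 ∈ base1, r0 < D.nroots ∧ ∃ (g2 : ℕ) (base2 : List ℕ) (fuel2 : ℕ),
      reachFb T Bs g2 base2 r0 fuel2 = true ∧
      ∀ s ∈ base2, s < D.nroots ∧ (s = r0 ∨ s = D.neg r0 ∨ ∃ L : List ℕ,
        (∀ i ∈ L, i < D.rank) ∧ D.nroots / 2 ≤ wW' Bs L r0 ∧ D.nroots / 2 ≤ wW' Bs L s)) :
    ∀ r < D.nroots, ∀ s < D.nroots, X.Rel2' r s := by
  apply reach_all C.hA (fun r => ∀ s < D.nroots, X.Rel2' r s) Bs g1 base1 fuel1 hr1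
  · intro r0 hr0
    obtain ⟨hr0lt, g2, base2, fuel2, hrF, hb2⟩ := hrow r0 hr0
    apply reachF_all C.hA (fun s => X.Rel2' r0 s) Bs g2 base2 r0 fuel2 hrF
    · intro s hs
      obtain ⟨hslt, h | h | ⟨L, hL, h1, h2⟩⟩ := hb2 s hs
      · exact Or.inl h
      · exact Or.inr (Or.inl h)
      · apply X.rel2'_word C hSR hcw L hL r0 s hr0lt hslt
        by_cases he : wW' Bs L s = wW' Bs L r0
        · exact Or.inl he
        · exact Or.inr (Or.inr (hpos _ _ (wW'_lt C.hA Bs C.hB L hL r0 hr0lt)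
            (wW'_lt C.hA Bs C.hB L hL s hslt) h1 h2 he))
    · intro i hi s hs
      exact ((C.hB i hi).cert C.hA).w_lt s hs
    · intro i hi hfix s hs h
      have hcert := (C.hB i hi).cert C.hA
      have := X.rel2'_transfer C hSR hcw i hi r0 _ hr0lt (hcert.w_lt s hs) h
      rwa [hfix, hcert.w_w s hs] at this
  · intro i hi s hs
    exact ((C.hB i hi).cert C.hA).w_lt s hs
  · intro i hi r hr h s hs
    have hcert := (C.hB i hi).cert C.hA
    exact X.rel2'_transfer_back C hSR hcw i hi r s hr hs (h _ (hcert.w_lt s hs))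

end ExtS

end Cfsg.Agent.F4Mult
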